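import Groth.Agent.S12413
import Groth.Agent.H4.PicZero.AlgTriv

/-! The representing scheme of `Pic⁰` is separated. -/

set_option autoImplicit false
set_option linter.style.haveILetI false
universe u
open CategoryTheory CategoryTheory.Limits AlgebraicGeometry

namespace Groth.Agent.H4.DualSep

open Groth.Agent.S12413 Groth.Agent.Lib.Cube

theorem isSeparated {X S : Scheme.{u}} (f : X ⟶ S)
    [IsProper f] [Flat f] [LocallyOfFinitePresentation f] [GeometricallyIntegral f]
    (P : Over S) (φ : ∀ T : Over S, PicF.Cl (PicF.XT f T) → (T ⟶ P))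
    (hP : AbDual.IsRelPicZeroK Scheme.fppfPrecoverage f P φ) :
    IsSeparated P.hom := by

  have PZ : ∀ {T T' : Over S} (g : T' ⟶ T) {c : PicF.Cl (PicF.XT f T)}, AbDual.IsPicZeroCl f T c →
      AbDual.IsPicZeroCl f T' (PicF.pullCl (PicF.XTmap f g) c) := fun {T T'} g {c} hc =>
    H4.PicZero.isPicZeroCl_pullCl g.left (PicF.XTmap f g) (pullback.lift_snd _ _ _) hc
  have PI : ∀ {T : Over S} {c : PicF.Cl (PicF.XT f T)}, AbDual.IsPicZeroCl f T c → PicF.IsInvertibleCl c :=
    fun {T c} ⟨L, e, hL, _⟩ => ⟨L, e, hL⟩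
  refine ⟨IsClosedImmersion.of_isPreimmersion _ ?_⟩
  let T : Over S := Over.mk (pullback.fst P.hom P.hom ≫ P.hom)
  let g₁ : T ⟶ P := Over.homMk (pullback.fst P.hom P.hom)
  let g₂ : T ⟶ P := Over.homMk (pullback.snd P.hom P.hom) pullback.condition.symm
  rw [← isOpen_compl_iff, isOpen_iff_forall_mem_open]
  intro x hx
  obtain ⟨R₁, hR₁, hloc₁⟩ := hP.locallySurjective T g₁
  obtain ⟨U, u, hu, ⟨x₁, hx₁⟩, hu₁, hu₂⟩ := exists_mem_cover hR₁ x
  obtain ⟨c₁, hc₁, hφ₁⟩ := hloc₁ u hu
  obtain ⟨R₂, hR₂, hloc₂⟩ := hP.locallySurjective (AbDual.ovr T u) (AbDual.ovrHom T u ≫ g₂)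
  obtain ⟨V, v, hv, ⟨x₂, hx₂⟩, hv₁, hv₂⟩ := exists_mem_cover hR₂ x₁
  obtain ⟨c₂, hc₂, hφ₂⟩ := hloc₂ v hv
  let V' := AbDual.ovr (AbDual.ovr T u) v
  let h : V' ⟶ T := AbDual.ovrHom (AbDual.ovr T u) v ≫ AbDual.ovrHom T u
  let c₁' := PicF.pullCl (PicF.XTmap f (AbDual.ovrHom (AbDual.ovr T u) v)) c₁
  have hc₁' : AbDual.IsPicZeroCl f V' c₁' := PZ _ hc₁
  have hφ₁' : φ V' c₁' = h ≫ g₁ := by
    rw [hP.natural _ _ _ c₁ hc₁, hφ₁, Category.assoc]
  have hφ₂' : φ V' c₂ = h ≫ g₂ := by rw [hφ₂, Category.assoc]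
  -- agreement on a field point means lying on the diagonal
  have hagree : ∀ t : V'.left, (v ≫ u) t ∈ Set.range (pullback.diagonal P.hom) ↔
      ∃ (K : Type u) (_ : Field K) (σ : Spec (CommRingCat.of K) ⟶ V'.left),
        σ (IsLocalRing.closedPoint K) = t ∧
        PicF.pullCl (PicF.XTmap f (AbDual.ovrHom V' σ)) c₁' =
          PicF.pullCl (PicF.XTmap f (AbDual.ovrHom V' σ)) c₂ := by
    intro t
    constructor
    · rintro ⟨p, hp⟩
      -- a field point over `t` which factors through the diagonal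
      let τ := V'.left.fromSpecResidueField t ≫ v ≫ u
      have hτ : τ (IsLocalRing.closedPoint _) = pullback.diagonal P.hom p := by
        rw [hp]; exact congrArg (v ≫ u) (V'.left.fromSpecResidueField_apply t _)
      obtain ⟨z, -⟩ := Scheme.Pullback.exists_preimage_pullback p
        (IsLocalRing.closedPoint (V'.left.residueField t)) (f := pullback.diagonal P.hom) (g := τ) hτ.symm
      let Ω := (pullback (pullback.diagonal P.hom) τ).residueField z
      let σ : Spec (CommRingCat.of Ω) ⟶ V'.left :=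
        (pullback (pullback.diagonal P.hom) τ).fromSpecResidueField z ≫ pullback.snd _ τ ≫
          V'.left.fromSpecResidueField t
      have hσ : σ (IsLocalRing.closedPoint Ω) = t := V'.left.fromSpecResidueField_apply t _
      let W := AbDual.ovr V' σ
      have heq : AbDual.ovrHom V' σ ≫ h ≫ g₁ = AbDual.ovrHom V' σ ≫ h ≫ g₂ := by
        apply Over.OverMorphism.ext
        have e : σ ≫ v ≫ u = ((pullback (pullback.diagonal P.hom) τ).fromSpecResidueField z ≫
            pullback.fst _ τ) ≫ pullback.diagonal P.hom := by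
          simp only [σ, τ, Category.assoc, pullback.condition]
        show σ ≫ (v ≫ u) ≫ pullback.fst P.hom P.hom = σ ≫ (v ≫ u) ≫ pullback.snd P.hom P.hom
        rw [← Category.assoc σ (v ≫ u), ← Category.assoc σ (v ≫ u), e, Category.assoc, Category.assoc,
          pullback.diagonal_fst]
        simp only [Category.assoc, pullback.diagonal_snd, Category.comp_id]
      have hφ : φ W (PicF.pullCl (PicF.XTmap f (AbDual.ovrHom V' σ)) c₁') =
          φ W (PicF.pullCl (PicF.XTmap f (AbDual.ovrHom V' σ)) c₂) := by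
        rw [hP.natural _ _ _ c₁' hc₁', hP.natural _ _ _ c₂ hc₂, hφ₁', hφ₂', heq]
      obtain ⟨R, hR, hloc⟩ := hP.locallyInjective W _ _ (PZ _ hc₁') (PZ _ hc₂) hφ
      obtain ⟨U', u', hu', ⟨z', -⟩, -, -⟩ := exists_mem_cover hR (IsLocalRing.closedPoint Ω)
      let Ω' := U'.residueField z'
      let σ' : Spec (CommRingCat.of Ω') ⟶ V'.left := U'.fromSpecResidueField z' ≫ u' ≫ σ
      refine ⟨Ω', inferInstance, σ', ?_, ?_⟩
      · show σ (u' (U'.fromSpecResidueField z' _)) = t
        rw [Subsingleton.elim (α := Spec (CommRingCat.of Ω)) (u' _) (IsLocalRing.closedPoint Ω)]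
        exact hσ
      · have key := hloc u' hu'
        let r : AbDual.ovr V' σ' ⟶ AbDual.ovr W u' :=
          Over.homMk (U'.fromSpecResidueField z') (by simp [σ', W])
        have e : PicF.XTmap f r ≫ PicF.XTmap f (AbDual.ovrHom W u') ≫
            PicF.XTmap f (AbDual.ovrHom V' σ) = PicF.XTmap f (AbDual.ovrHom V' σ') := by
          apply pullback.hom_ext
          · simp [PicF.XTmap, pullback.map, pullback.lift_fst, pullback.lift_fst_assoc]
          · simp [PicF.XTmap, pullback.map, pullback.lift_snd, pullback.lift_snd_assoc, r, σ']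
        rw [← e]
        simp only [PicLoc.pullCl_comp]
        exact congrArg (PicF.pullCl (PicF.XTmap f r)) key
    · rintro ⟨K, _, σ, hσ, he⟩
      have hφ : AbDual.ovrHom V' σ ≫ h ≫ g₁ = AbDual.ovrHom V' σ ≫ h ≫ g₂ := by
        rw [← hφ₁', ← hφ₂', ← hP.natural _ _ _ c₁' hc₁', ← hP.natural _ _ _ c₂ hc₂, he]
      have e : σ ≫ v ≫ u = ((σ ≫ v ≫ u) ≫ pullback.fst P.hom P.hom) ≫ pullback.diagonal P.hom := by
        apply pullback.hom_ext
        · rw [Category.assoc ((σ ≫ v ≫ u) ≫ _), pullback.diagonal_fst, Category.comp_id]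
        · rw [Category.assoc ((σ ≫ v ≫ u) ≫ _), pullback.diagonal_snd, Category.comp_id]
          have := congrArg (fun m => m.left) hφ
          simpa [h, g₁, g₂] using this.symm
      refine ⟨((σ ≫ v ≫ u) ≫ pullback.fst P.hom P.hom) (IsLocalRing.closedPoint K), ?_⟩
      exact (congr($e.symm (IsLocalRing.closedPoint K))).trans (congrArg (v ≫ u) hσ)
  let Z : Set V'.left := (v ≫ u) ⁻¹' Set.range (pullback.diagonal P.hom)
  have hZ : IsClosed Z := by
    convert exists_closed_agree f V' c₁' c₂ (PI hc₁') (PI hc₂) using 1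
    ext t
    exact hagree t
  haveI : Flat (v ≫ u) := by haveI := hu₁; haveI := hv₁; exact MorphismProperty.comp_mem _ v u hv₁ hu₁
  haveI : LocallyOfFinitePresentation (v ≫ u) := MorphismProperty.comp_mem _ v u hv₂ hu₂
  refine ⟨(v ≫ u) '' Zᶜ, ?_, (v ≫ u).isOpenMap _ hZ.isOpen_compl, ?_⟩
  · rintro _ ⟨t, ht, rfl⟩ hr
    exact ht hr
  · refine ⟨x₂, fun h2 => hx ?_, ?_⟩
    · have hxx : (v ≫ u) x₂ = x := by rw [Scheme.Hom.comp_apply, hx₂, hx₁]
      rw [← hxx]
      exact h2
    · rw [Scheme.Hom.comp_apply, hx₂, hx₁]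

end Groth.Agent.H4.DualSep
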