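import Groth.Agent.H4.DualSep.Basic
import Groth.Agent.H3.CubeRel
import Groth.Agent.H2.Rigid.Conn
import Groth.Agent.H2.Rigid.Factor
import Groth.Agent.H2.Rigid.GeomIrred
import Groth.Agent.H4.GeomInt
import Groth.Agent.Lib.TensorMod.Basic
import Groth.Prelude.Def_AgPol

/-! The class of the Lambda module of an invertible module is in `Pic⁰`; the attached morphism fixes the
unit, and is trivial as soon as it is so on one fibre. -/

set_option autoImplicit false
set_option linter.style.haveILetI false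
universe u
open CategoryTheory CategoryTheory.Limits MonoidalCategory CartesianMonoidalCategory AlgebraicGeometry
open scoped MonObj
open Groth.Agent.H3

namespace Groth.Agent.H4.DualSep

noncomputable section

local instance (Y : Scheme.{u}) : PicGrp.Law Y := Groth.Agent.Lib.TensorMod.Invertible.law Y

variable {S : Scheme.{u}} {A : Over S} [GrpObj A] {L : A.left.Modules} (hL : PicF.IsInvertible L)
  {N : (PicF.XT A.hom A).Modules} (hN : PicF.IsInvertible N)
  (hN' : AgPol.IsLambdaSheaf (μ[A].left : PicF.XT A.hom A ⟶ A.left) (fst A A).left (snd A A).left L N)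

include hN hN' in
theorem lambda_rel {V : Over S} (x y : V ⟶ A) :
    PicCalc.ph (lift x y) (PicGrp.cls N hN : PicLoc.PicSet (A ⊗ A).left) *
        PicCalc.ph x (PicGrp.cls L hL) * PicCalc.ph y (PicGrp.cls L hL) =
      PicCalc.ph (x * y) (PicGrp.cls L hL) := by
  have h : (PicGrp.cls N hN : PicLoc.PicSet (A ⊗ A).left) * PicCalc.ph (fst A A) (PicGrp.cls L hL) *
      PicCalc.ph (snd A A) (PicGrp.cls L hL) = PicCalc.ph μ[A] (PicGrp.cls L hL) :=
    (PicCalc.iso_iff (PicCalc.cl_tensor (PicCalc.cl_tensor rfl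
      (PicCalc.cl_pullback (fst A A) (a := PicGrp.cls L hL) rfl))
      (PicCalc.cl_pullback (snd A A) (a := PicGrp.cls L hL) rfl))
      (PicCalc.cl_pullback μ[A] (a := PicGrp.cls L hL) rfl)).1 hN'
  have h2 := congrArg (PicCalc.ph (lift x y)) h
  rwa [map_mul, map_mul, ← PicCalc.ph_comp, ← PicCalc.ph_comp, ← PicCalc.ph_comp, lift_fst, lift_snd,
    ← Hom.mul_def] at h2

include hL hN hN' in
theorem ph_lift_one {V : Over S} (x : V ⟶ A) :
    PicCalc.ph (lift x 1) (PicGrp.cls N hN : PicLoc.PicSet (A ⊗ A).left) =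
      (PicCalc.ph (1 : V ⟶ A) (PicGrp.cls L hL))⁻¹ := by
  have h := lambda_rel hL hN hN' x 1
  rw [_root_.mul_one] at h
  rw [eq_inv_iff_mul_eq_one]
  exact mul_left_cancel (a := PicCalc.ph x (PicGrp.cls L hL)) (by rw [_root_.mul_one]; refine Eq.trans ?_ h; ac_rfl)

include hL hN hN' in
theorem isPicZeroCl_lambda [IsProper A.hom] [GeometricallyConnected A.hom] :
    AbDual.IsPicZeroCl A.hom A (PicF.cl N) := by
  refine ⟨N, rfl, hN, fun t Ω _ _ σ hσ => ?_⟩
  let b : Spec (CommRingCat.of Ω) ⟶ S := σ ≫ A.hom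
  let π := pullback.fst (PicF.XTproj A.hom A) σ
  let p := pullback.snd (PicF.XTproj A.hom A) σ
  let q : pullback A.hom b ⟶ Spec (CommRingCat.of Ω) := pullback.snd A.hom b
  have hπp : π ≫ pullback.snd A.hom A.hom = p ≫ σ := pullback.condition
  have hw : (π ≫ pullback.fst A.hom A.hom) ≫ A.hom = p ≫ b := by
    rw [Category.assoc, pullback.condition, reassoc_of% hπp]
  let j : pullback p q ⟶ pullback A.hom A.hom :=
    pullback.lift (pullback.fst p q ≫ π ≫ pullback.fst A.hom A.hom) (pullback.snd p q ≫ pullback.fst A.hom b) (by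
      simp only [Category.assoc] at hw ⊢
      rw [hw, pullback.condition_assoc, pullback.condition])
  let t₁ : Spec (CommRingCat.of Ω) ⟶ pullback A.hom b := pullback.lift σ (𝟙 _) (Category.id_comp _).symm
  let t₀ : Spec (CommRingCat.of Ω) ⟶ pullback A.hom b := pullback.lift (b ≫ η[A].left) (𝟙 _) (by
    rw [Category.assoc, Category.id_comp]
    exact (congrArg (b ≫ ·) (Over.w η[A])).trans (Category.comp_id _))
  have ht₁ : t₁ ≫ q = 𝟙 _ := pullback.lift_snd _ _ _
  have ht₀ : t₀ ≫ q = 𝟙 _ := pullback.lift_snd _ _ _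
  have hs₁ : @Pic13.sliceAt Ω _ _ ⟨p⟩ _ q t₁ ht₁ ≫ pullback.fst p q = 𝟙 _ := pullback.lift_fst _ _ _
  have hs₁' : @Pic13.sliceAt Ω _ _ ⟨p⟩ _ q t₁ ht₁ ≫ pullback.snd p q = p ≫ t₁ := pullback.lift_snd _ _ _
  have hs₀ : @Pic13.sliceAt Ω _ _ ⟨p⟩ _ q t₀ ht₀ ≫ pullback.fst p q = 𝟙 _ := pullback.lift_fst _ _ _
  have hs₀' : @Pic13.sliceAt Ω _ _ ⟨p⟩ _ q t₀ ht₀ ≫ pullback.snd p q = p ≫ t₀ := pullback.lift_snd _ _ _
  have hsl₁ : ∀ sl : pullback (PicF.XTproj A.hom A) σ ⟶ pullback p q,
      sl ≫ pullback.fst p q = 𝟙 _ → sl ≫ pullback.snd p q = p ≫ t₁ → sl ≫ j = π := fun sl h1 h2 => by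
    apply pullback.hom_ext
    · rw [Category.assoc, pullback.lift_fst, reassoc_of% h1]
    · rw [Category.assoc, pullback.lift_snd, reassoc_of% h2, pullback.lift_fst]
      exact hπp.symm
  let x : Over.mk (p ≫ b) ⟶ A := Over.homMk (π ≫ pullback.fst A.hom A.hom) hw
  have hsl₀ : ∀ sl : pullback (PicF.XTproj A.hom A) σ ⟶ pullback p q,
      sl ≫ pullback.fst p q = 𝟙 _ → sl ≫ pullback.snd p q = p ≫ t₀ →
        sl ≫ j = (lift x (1 : Over.mk (p ≫ b) ⟶ A)).left := fun sl h1 h2 => by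
    apply pullback.hom_ext
    · rw [Category.assoc, pullback.lift_fst, reassoc_of% h1]
      exact (congrArg Over.Hom.left (lift_fst x (1 : Over.mk (p ≫ b) ⟶ A))).symm
    · rw [Category.assoc, pullback.lift_snd, reassoc_of% h2, pullback.lift_fst]
      refine Eq.trans ?_ (congrArg Over.Hom.left (lift_snd x (1 : Over.mk (p ≫ b) ⟶ A))).symm
      rw [Hom.one_def]
      exact (Category.assoc p b η[A].left).symm
  refine ⟨pullback A.hom b, q,
    GeometricallyConnected.geometrically_connectedSpace (f := A.hom) b _ _ (.of_hasPullback _ _),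
    inferInstance, inferInstance, (Scheme.Modules.pullback j).obj N,
    PicLoc.isInvertible_pullback j hN, t₁, t₀, ht₁, ht₀, ⟨?_⟩, ?_⟩
  · exact (Scheme.Modules.pullbackComp _ j).app N ≪≫
      (Scheme.Modules.pullbackCongr (hsl₁ _ hs₁ hs₁')).app N
  · let V : Over S := Over.mk (p ≫ b)
    let g : V ⟶ Over.mk b := Over.homMk p rfl
    have hone : PicCalc.ph (1 : V ⟶ A) (PicGrp.cls L hL) = 1 := by
      haveI : Subsingleton (Over.mk b).left := inferInstanceAs (Subsingleton (PrimeSpectrum Ω))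
      haveI : Nonempty (Over.mk b).left := inferInstanceAs (Nonempty (PrimeSpectrum Ω))
      rw [← MonObj.comp_one g, PicCalc.ph_comp, PicCalc.eq_one_of_subsingleton (PicCalc.ph (1 : Over.mk b ⟶ A) _), map_one]
    have h := congrArg Subtype.val (ph_lift_one hL hN hN' x)
    rw [hone, inv_one, PicGrp.one_val, PicCalc.ph_val] at h
    obtain ⟨e⟩ := (PicGrp.cl_eq_cl_iff _ _).1 (((PicLoc.pullCl_cl (lift x (1 : V ⟶ A)).left N).symm.trans h))
    refine ⟨(Scheme.Modules.pullbackComp _ j).app N ≪≫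
      (Scheme.Modules.pullbackCongr (hsl₀ _ hs₀ hs₀')).app N ≪≫ e⟩

variable {At : Over S} [GrpObj At] [IsCommMonObj A] [IsCommMonObj At] {φ : AgPol.DualMap A At}
  (hdual : AbDual.IsDualAV Scheme.fppfPrecoverage A At φ)

include hdual hL hN hN' in
theorem unit_comp_lambda [IsProper A.hom] [GeometricallyConnected A.hom] :
    η[A] ≫ φ A (PicF.cl N) = 1 := by
  have hc := isPicZeroCl_lambda hL hN hN'
  rw [← hdual.relPic.natural A (𝟙_ (Over S)) η[A] _ hc]
  have hc₀ := H4.PicZero.isPicZeroCl_pullCl (η[A] : 𝟙_ (Over S) ⟶ A).left (PicF.XTmap A.hom η[A])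
    (pullback.lift_snd _ _ _) hc
  apply Over.OverMorphism.ext
  refine Scheme.Cover.hom_ext (Scheme.openCoverOfIsOpenCover S
    (fun U : {U : S.Opens // Nonempty (((Scheme.Modules.pullback η[A].left).obj L).restrict U.ι ≅ Coh.structureModule (U : Scheme.{u}))} => U.1) ?_) _ _ fun U => ?_
  · rw [TopologicalSpace.IsOpenCover, eq_top_iff]
    intro s _
    obtain ⟨U, hs, hU⟩ := PicLoc.isInvertible_pullback η[A].left hL s
    exact TopologicalSpace.Opens.mem_iSup.2 ⟨⟨U, hU⟩, hs⟩
  let o : 𝟙_ (Over S) ⟶ 𝟙_ (Over S) := 𝟙 _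
  let V : Over S := AbDual.ovr (𝟙_ (Over S)) U.1.ι
  let r : V ⟶ 𝟙_ (Over S) := AbDual.ovrHom (𝟙_ (Over S)) U.1.ι
  have hr : PicCalc.ph r (PicCalc.ph η[A] (PicGrp.cls L hL)) = 1 := by
    obtain ⟨e⟩ := U.2
    refine Subtype.ext ?_
    rw [PicGrp.one_val, PicCalc.ph_val, PicCalc.ph_val]
    refine Eq.trans ?_ ((PicGrp.cl_eq_cl_iff _ _).2
      ⟨((Scheme.Modules.restrictFunctorIsoPullback U.1.ι).symm.app _ ≪≫ e)⟩)
    rw [← PicLoc.pullCl_cl, ← PicLoc.pullCl_cl]
    rfl
  have hpz : AbDual.IsPicZeroCl A.hom V (PicF.pullCl (PicF.XTmap A.hom r) (PicF.pullCl (PicF.XTmap A.hom η[A]) (PicF.cl N))) :=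
    H4.PicZero.isPicZeroCl_pullCl r.left (PicF.XTmap A.hom r) (pullback.lift_snd _ _ _) hc₀
  have htriv : PicF.pullCl (PicF.XTmap A.hom r) (PicF.pullCl (PicF.XTmap A.hom η[A]) (PicF.cl N)) =
      PicF.cl (Coh.structureModule (PicF.XT A.hom V)) := by
    have e1 : PicF.XTmap A.hom r ≫ PicF.XTmap A.hom η[A] = (lift (fst A V) (1 : A ⊗ V ⟶ A)).left := by
      rw [Hom.one_def, toUnit_unique (toUnit (A ⊗ V)) (snd A V ≫ r)]
      apply pullback.hom_ext
      · rw [Category.assoc]
        refine Eq.trans ?_ (congrArg Over.Hom.left (lift_fst (fst A V) ((snd A V ≫ r) ≫ η[A]))).symm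
        show (pullback.lift _ _ _ ≫ pullback.lift _ _ _ ≫ pullback.fst _ _) = pullback.fst _ _
        rw [pullback.lift_fst, pullback.lift_fst_assoc, Category.comp_id, Category.comp_id]
      · rw [Category.assoc]
        refine Eq.trans ?_ (congrArg Over.Hom.left (lift_snd (fst A V) ((snd A V ≫ r) ≫ η[A]))).symm
        show (pullback.lift _ _ _ ≫ pullback.lift _ _ _ ≫ pullback.snd _ _) = (pullback.snd _ _ ≫ r.left) ≫ η[A].left
        rw [pullback.lift_snd, pullback.lift_snd_assoc, Category.assoc]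
    rw [← PicLoc.pullCl_comp, e1]
    have h := congrArg Subtype.val (ph_lift_one hL hN hN' (fst A V))
    rw [Hom.one_def, toUnit_unique (toUnit (A ⊗ V)) (snd A V ≫ r), Category.assoc, PicCalc.ph_comp (snd A V),
      PicCalc.ph_comp r, hr, map_one, inv_one, PicGrp.one_val, PicCalc.ph_val] at h
    rw [Hom.one_def, toUnit_unique (toUnit (A ⊗ V)) (snd A V ≫ r), Category.assoc]
    exact h
  have h1 : φ V (PicF.cl (Coh.structureModule (PicF.XT A.hom V))) = 1 := by
    have h2 := hdual.mul V (Coh.structureModule (PicF.XT A.hom V)) (Coh.structureModule (PicF.XT A.hom V))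
      (htriv ▸ hpz) (htriv ▸ hpz)
    rw [(PicGrp.cl_eq_cl_iff _ _).2 ⟨Lib.TensorMod.Basic.leftUnit (Coh.structureModule (PicF.XT A.hom V))⟩] at h2
    exact mul_eq_left.1 h2.symm
  have h3 := hdual.relPic.natural _ _ r _ hc₀
  rw [htriv, h1] at h3
  have h4 := congrArg Over.Hom.left (h3.symm.trans (MonObj.comp_one r).symm)
  exact h4

include hdual in
theorem lambda_eq_one [ConnectedSpace S] [IsProper A.hom] [Smooth A.hom] [GeometricallyConnected A.hom]
    {L : A.left.Modules} (hL : PicF.IsInvertible L) {lam : A ⟶ At} (hlam : AgPol.IsLambda A At φ L lam)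
    (s : S) (h : (Over.pullback (S.fromSpecResidueField s)).map lam = 1) : lam = 1 := by
  obtain ⟨N, hN, hN', rfl⟩ := hlam
  haveI : GeometricallyIntegral A.hom := H2.Rigid.GeomIrred.geometricallyIntegral_of_smooth A.hom
  haveI : GeometricallyReduced A.hom := H2.Rigid.geometricallyReduced_of_smooth A.hom
  haveI : IsSeparated At.hom := isSeparated A.hom At φ hdual.relPic
  haveI : Surjective A.hom := ⟨fun y => ⟨η[A].left y, congr($(Over.w η[A]) y)⟩⟩
  have ht : s ∈ H2.Rigid.constSet A.hom (φ A (PicF.cl N)).left := by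
    rw [← Functor.map_one (Over.pullback (S.fromSpecResidueField s)) (X := A) (M := At)] at h
    have h2 := congrArg (fun q => q.left ≫ Lib.GrpSch.bcProj (S.fromSpecResidueField s) At) h
    simp only [Lib.GrpSch.bc_map_proj] at h2
    refine H2.Rigid.mem_constSet.2 fun x x' hx hx' => ?_
    have key : ∀ y, A.hom y = s → (φ A (PicF.cl N)).left y = η[At].left s := fun y hy => by
      obtain ⟨z, rfl⟩ : y ∈ Set.range (A.hom.fiberι s) := by rw [Scheme.Hom.range_fiberι]; exact hy
      have h3 := congr($h2 z)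
      rw [Hom.one_def] at h3
      exact h3.trans (congrArg η[At].left hy)
    exact (key x hx).trans (key x' hx').symm
  obtain ⟨k, hk, hk'⟩ := H2.Rigid.exists_factor_of_proper A.hom (H2.Rigid.H0.of_geometrically A.hom)
    (φ A (PicF.cl N)).left (𝟙 S) At.hom (by rw [Over.w, Category.comp_id]) ht
  let t : 𝟙_ (Over S) ⟶ At := Over.homMk k hk'
  have e : toUnit A ≫ t = φ A (PicF.cl N) := Over.OverMorphism.ext hk
  have ht1 : t = 1 := by
    rw [← unit_comp_lambda hL hN hN' hdual, ← e, ← Category.assoc, toUnit_unique (η[A] ≫ toUnit A) (𝟙 _),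
      Category.id_comp]
  rw [← e, ht1, MonObj.comp_one]

end

end Groth.Agent.H4.DualSep
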